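import Groth.Agent.OrdQuadLib.Quot
import Groth.Agent.MorseLib.Hessian

/-! Non-degeneracy of the quadratic part depends only on the hypersurface ring. -/

set_option autoImplicit false
set_option linter.unusedSectionVars false
set_option linter.style.haveILetI false

universe u

open CohenLib MvPolynomial OrdQuad

namespace Groth.Agent.QuadPtLib

variable {k : Type u} [Field k] {m : ℕ}

/-- The Hessian at the origin of a polynomial. -/
noncomputable def hess (P : MvPolynomial (Fin (m + 1)) k) : Matrix (Fin (m + 1)) (Fin (m + 1)) k :=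
  fun a b => constantCoeff (pderiv a (pderiv b P))

theorem hess_part2 (z : MvPowerSeries (Fin (m + 1)) k) :
    hess (part2 z) = (VanCyc.polarMatrix (VanCyc.quadPart z)).transpose := by
  classical
  ext a b
  rw [Matrix.transpose_apply, ← MorseLib.polarMatrix_quadPart_apply, hess, constantCoeff_eq,
    MvPolynomial.coeff_pderiv, MvPolynomial.coeff_pderiv, MvPowerSeries.coeff_pderiv, zero_add, coeff_part2,
    if_pos (by simp)]
  simp [add_comm]

theorem hess_C_mul (c : k) (P : MvPolynomial (Fin (m + 1)) k) : hess (C c * P) = c • hess P := by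
  ext a b
  simp [hess, pderiv_C_mul]

theorem hess_aeval (M : Fin (m + 1) → Fin (m + 1) → k) (P : MvPolynomial (Fin (m + 1)) k) :
    hess (aeval (fun a => ∑ b, C (M a b) * X b) P) = (Matrix.of M).transpose * hess P * Matrix.of M := by
  classical
  have haff : aeval (fun a => ∑ b, C (M a b) * X b) = affSub (r := m) (0 : Fin (m + 1) → k) M :=
    algHom_ext fun a => by simp [affSub]
  have h0 : ∀ R : MvPolynomial (Fin (m + 1)) k,
      constantCoeff (affSub (r := m) (0 : Fin (m + 1) → k) M R) = constantCoeff R := fun R => by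
    have : (constantCoeff : MvPolynomial (Fin (m + 1)) k →+* k).comp (affSub (r := m) (0 : Fin (m + 1) → k) M).toRingHom =
        constantCoeff := MvPolynomial.ringHom_ext (fun c => by simp [affSub]) fun a => by simp [affSub]
    exact RingHom.congr_fun this R
  ext a b
  rw [haff, hess, pderiv_affSub, map_sum, map_sum]
  simp only [pderiv_C_mul, pderiv_affSub, map_mul, map_sum, constantCoeff_C, h0, smul_eq_C_mul]
  rw [Matrix.mul_apply]
  simp only [Matrix.mul_apply, Matrix.transpose_apply, Matrix.of_apply, hess, Finset.sum_mul, Finset.mul_sum]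
  exact Finset.sum_congr rfl fun x _ => Finset.sum_congr rfl fun y _ => by ring

theorem quadNondeg_of_equiv {z Q : MvPowerSeries (Fin (m + 1)) k} (hz : z ∈ varsIdeal k (m + 1) ^ 2)
    (hQ : Q ∈ varsIdeal k (m + 1) ^ 2)
    (σ : (MvPowerSeries (Fin (m + 1)) k ⧸ Ideal.span {z}) ≃+* (MvPowerSeries (Fin (m + 1)) k ⧸ Ideal.span {Q}))
    (hσ : ∀ c, σ (Ideal.Quotient.mk _ (MvPowerSeries.C c)) = Ideal.Quotient.mk _ (MvPowerSeries.C c))
    (h : VanCyc.QuadNondeg (VanCyc.quadPart Q)) : VanCyc.QuadNondeg (VanCyc.quadPart z) := by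
  classical
  have hσ' : ∀ c, σ.symm (Ideal.Quotient.mk _ (MvPowerSeries.C c)) = Ideal.Quotient.mk _ (MvPowerSeries.C c) :=
    fun c => by rw [σ.symm_apply_eq, hσ]
  obtain ⟨M, c, p, -, hp, hlp⟩ := exists_lift hz hQ σ hσ
  obtain ⟨M', c', p', hM', hp', hlp'⟩ := exists_lift hQ hz σ.symm hσ'
  have hinv := lift_inverse hz hQ σ hσ M p hp hlp M' p' hp' hlp'
  have hMM : Matrix.of M * Matrix.of M' = 1 := by
    ext a e
    have h1 := congrArg (MvPolynomial.coeff (Finsupp.single e 1)) (hinv a)
    simp only [map_sum, map_mul, aeval_C, aeval_X, MvPolynomial.algebraMap_eq, coeff_sum, coeff_C_mul,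
      MvPolynomial.coeff_X', Finsupp.single_left_inj one_ne_zero, mul_ite, mul_one, mul_zero, Finset.sum_ite_eq',
      Finset.mem_univ, if_true] at h1
    rw [Matrix.mul_apply, Matrix.one_apply]
    simpa [Matrix.of_apply] using h1
  have hdet : (Matrix.of M').det ≠ 0 := fun h0 => by
    have h1 := congrArg Matrix.det hMM
    rw [Matrix.det_mul, h0, mul_zero, Matrix.det_one] at h1
    exact zero_ne_one h1
  have h1 := congrArg Matrix.det (congrArg hess hM')
  rw [hess_aeval, hess_C_mul, hess_part2, hess_part2, Matrix.det_mul, Matrix.det_mul, Matrix.det_smul,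
    Matrix.det_transpose, Matrix.det_transpose, Matrix.det_transpose] at h1
  rw [VanCyc.QuadNondeg, isUnit_iff_ne_zero] at h ⊢
  intro h0
  rw [h0, mul_zero] at h1
  exact mul_ne_zero (mul_ne_zero hdet h) hdet h1

end Groth.Agent.QuadPtLib
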