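import Groth.Agent.QuadPtLib.Point
import Mathlib.RingTheory.Nakayama

/-! The Jacobian ideal at a rational point of a hypersurface, read in the completion. -/

set_option autoImplicit false
set_option linter.style.haveILetI false
set_option maxHeartbeats 1000000

universe u

namespace Groth.Agent.QuadPtLib

theorem jacobian_iff (k : Type u) [Field k] (m : ℕ) (f : MvPolynomial (Fin (m + 1)) k)
    (P : Ideal (MvPolynomial (Fin (m + 1)) k ⧸ Ideal.span {f})) [P.IsPrime]
    (hP : ∀ j : Fin (m + 1), Ideal.Quotient.mk (Ideal.span {f}) (MvPolynomial.pderiv j f) ∈ P)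
    (τ : MvPolynomial (Fin (m + 1)) k ≃ₐ[k] MvPolynomial (Fin (m + 1)) k)
    (hτd : ∀ (j : Fin (m + 1)) (p : MvPolynomial (Fin (m + 1)) k),
      MvPolynomial.pderiv j (τ p) = τ (MvPolynomial.pderiv j p))
    (hτP : ∀ p, Ideal.Quotient.mk (Ideal.span {f}) p ∈ P ↔ MvPolynomial.constantCoeff (τ p) = 0)
    (Y : Type u) [CommRing Y] [IsLocalRing Y] [IsNoetherianRing Y]
    [Algebra (MvPolynomial (Fin (m + 1)) k ⧸ Ideal.span {f}) Y] [IsLocalization.AtPrime Y P]
    [Algebra k Y] [IsScalarTower k (MvPolynomial (Fin (m + 1)) k ⧸ Ideal.span {f}) Y] :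
    ∃ h : MvPowerSeries (Fin (m + 1)) k, h = algebraMap _ _ (τ f) ∧ VanCyc.NoLowTerms h ∧
      h ∈ CohenLib.varsIdeal k (m + 1) ^ 2 ∧
      (∀ g : MvPowerSeries (Fin (m + 1)) k, VanCyc.NoLowTerms g → g ∈ CohenLib.varsIdeal k (m + 1) ^ 2) ∧
      Nonempty (AdicCompletion (IsLocalRing.maximalIdeal Y) Y ≃ₐ[k] (MvPowerSeries (Fin (m + 1)) k ⧸ Ideal.span {h})) ∧
      (Ideal.map (algebraMap (MvPolynomial (Fin (m + 1)) k ⧸ Ideal.span {f}) Y)
          (Ideal.span (Set.range fun j : Fin (m + 1) => Ideal.Quotient.mk (Ideal.span {f}) (MvPolynomial.pderiv j f))) =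
        IsLocalRing.maximalIdeal Y ↔
      Ideal.span (Set.range fun i : Fin (m + 1) => MvPowerSeries.pderiv k i h) = CohenLib.varsIdeal k (m + 1)) := by
  classical
  set co : MvPolynomial (Fin (m + 1)) k →+* MvPowerSeries (Fin (m + 1)) k := algebraMap _ _ with hco
  set h := co (τ f) with hh
  obtain ⟨Φ, hΦ, hΦm, ⟨eC⟩⟩ := exists_completion f P τ hτP Y
  have hder : ∀ j p, co (MvPolynomial.pderiv j p) = MvPowerSeries.pderiv k j (co p) := fun j p => by
    ext e
    simp [hco, MvPowerSeries.algebraMap_apply', MvPolynomial.coeff_coe, MvPowerSeries.coeff_pderiv,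
      MvPolynomial.coeff_pderiv]
  have hd : ∀ j, MvPowerSeries.pderiv k j h = co (τ (MvPolynomial.pderiv j f)) := fun j => by
    rw [hh, ← hder, hτd]
  have hzero : ∀ p : MvPolynomial (Fin (m + 1)) k,
      MvPowerSeries.constantCoeff (co p) = MvPolynomial.constantCoeff p := fun p => by
    rw [← MvPowerSeries.coeff_zero_eq_constantCoeff_apply, hco, OrdQuad.coeff_algebraMap, MvPolynomial.constantCoeff_eq]
  have hd0 : ∀ j, MvPowerSeries.constantCoeff (MvPowerSeries.pderiv k j h) = 0 := fun j => by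
    rw [hd, hzero]; exact (hτP _).1 (hP j)
  have hh0 : MvPowerSeries.constantCoeff h = 0 := by
    rw [hh, hzero]
    exact (hτP f).1 (by rw [Ideal.Quotient.eq_zero_iff_mem.2 (Ideal.mem_span_singleton_self f)]; exact P.zero_mem)
  have hlow : VanCyc.NoLowTerms h := ⟨hh0, fun i => by
    have h1 := hd0 i
    rw [← MvPowerSeries.coeff_zero_eq_constantCoeff_apply, MvPowerSeries.coeff_pderiv] at h1
    simpa using h1⟩
  have hsq : ∀ g : MvPowerSeries (Fin (m + 1)) k, VanCyc.NoLowTerms g → g ∈ CohenLib.varsIdeal k (m + 1) ^ 2 :=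
    fun g hg => OrdQuad.mem_pow_of_coeff fun e he => by
      rcases MorseLib.degree_cases e he.le with rfl | ⟨i, rfl⟩ | ⟨i, j, -, rfl⟩
      · exact hg.1
      · exact hg.2 i
      · simp at he
  set J := Ideal.map (algebraMap (MvPolynomial (Fin (m + 1)) k ⧸ Ideal.span {f}) Y)
    (Ideal.span (Set.range fun j : Fin (m + 1) => Ideal.Quotient.mk (Ideal.span {f}) (MvPolynomial.pderiv j f))) with hJ
  set D := Ideal.span (Set.range fun i : Fin (m + 1) => MvPowerSeries.pderiv k i h) with hD
  have hJD : J.map Φ = D.map (Ideal.Quotient.mk (Ideal.span {h})) := by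
    simp only [hJ, hD, Ideal.map_span, Ideal.map_map, ← Set.range_comp, Function.comp_def, RingHom.comp_apply, hΦ, hd, ← hco]
    rfl
  refine ⟨h, hh, hlow, hsq h hlow, hsq, ⟨eC⟩, ?_⟩
  have hN : J = IsLocalRing.maximalIdeal Y ↔ D = CohenLib.varsIdeal k (m + 1) := by
    have hDle : D ≤ CohenLib.varsIdeal k (m + 1) := Ideal.span_le.2 (by
      rintro _ ⟨i, rfl⟩
      rw [SetLike.mem_coe, ← CohenLib.maximalIdeal_mvPowerSeries_field, IsLocalRing.mem_maximalIdeal, mem_nonunits_iff,
        MvPowerSeries.isUnit_iff_constantCoeff, hd0]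
      exact not_isUnit_zero)
    constructor
    · intro hJm
      have h1 : D.map (Ideal.Quotient.mk (Ideal.span {h})) =
          (CohenLib.varsIdeal k (m + 1)).map (Ideal.Quotient.mk (Ideal.span {h})) := by rw [← hJD, hJm, hΦm]
      haveI := CohenLib.isNoetherianRing_mvPowerSeries (n := m + 1) k
      refine le_antisymm hDle ?_
      refine Submodule.le_of_le_smul_of_le_jacobson_bot (I := CohenLib.varsIdeal k (m + 1))
        (IsNoetherian.noetherian _) ?_ ?_
      · rw [← CohenLib.maximalIdeal_mvPowerSeries_field]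
        exact IsLocalRing.maximalIdeal_le_jacobson _
      · intro x hx
        have h2 := h1 ▸ Ideal.mem_map_of_mem (Ideal.Quotient.mk (Ideal.span {h})) hx
        rw [Ideal.mem_map_iff_of_surjective _ Ideal.Quotient.mk_surjective] at h2
        obtain ⟨y, hy, hyx⟩ := h2
        obtain ⟨c, hc⟩ := Ideal.mem_span_singleton'.1 (Ideal.Quotient.eq.1 hyx)
        rw [show x = y + (-c) * h by linear_combination hc, smul_eq_mul]
        refine Submodule.add_mem_sup hy (Ideal.mul_mem_left _ _ ?_)
        rw [← pow_two]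
        exact hsq h hlow
    · intro hDm
      let θ : MvPolynomial (Fin (m + 1)) k →+* Y :=
        ((algebraMap (MvPolynomial (Fin (m + 1)) k ⧸ Ideal.span {f}) Y).comp
          (Ideal.Quotient.mk (Ideal.span {f}))).comp τ.symm.toAlgHom.toRingHom
      have hθ : (MvPolynomial.idealOfVars (Fin (m + 1)) k).map θ = IsLocalRing.maximalIdeal Y := by
        have hθ' : θ = (algebraMap (MvPolynomial (Fin (m + 1)) k ⧸ Ideal.span {f}) Y).comp
            ((Ideal.Quotient.mk (Ideal.span {f})).comp τ.symm.toAlgHom.toRingHom) := rfl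
        rw [hθ', ← Ideal.map_map, map_vars f P τ hτP, IsLocalization.AtPrime.map_eq_maximalIdeal P]
      have hθd : ∀ j, θ (τ (MvPolynomial.pderiv j f)) ∈ J := fun j => by
        show algebraMap _ _ (Ideal.Quotient.mk (Ideal.span {f}) (τ.symm (τ (MvPolynomial.pderiv j f)))) ∈ J
        rw [τ.symm_apply_apply]
        exact Ideal.mem_map_of_mem _ (Ideal.subset_span ⟨j, rfl⟩)
      refine le_antisymm ?_ ?_
      · refine Ideal.map_le_iff_le_comap.2 (Ideal.span_le.2 ?_)
        rintro _ ⟨j, rfl⟩
        exact (IsLocalization.AtPrime.to_map_mem_maximal_iff Y P _).2 (hP j)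
      · haveI : IsNoetherianRing Y :=
          IsLocalization.isNoetherianRing P.primeCompl Y inferInstance
        refine Submodule.le_of_le_smul_of_le_jacobson_bot (R := Y) (M := Y)
          (I := IsLocalRing.maximalIdeal Y) ?_ ?_ ?_
        · exact IsNoetherian.noetherian _
        · exact IsLocalRing.maximalIdeal_le_jacobson (R := Y) (⊥ : Ideal Y)
        conv_lhs => rw [← hθ, MvPolynomial.idealOfVars, Ideal.map_span]
        rw [Ideal.span_le]
        rintro _ ⟨_, ⟨i, rfl⟩, rfl⟩
        have hX : (MvPowerSeries.X i : MvPowerSeries (Fin (m + 1)) k) ∈ D := hDm ▸ Ideal.subset_span ⟨i, rfl⟩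
        obtain ⟨c, hc⟩ := Ideal.mem_span_range_iff_exists_fun.1 hX
        let q : MvPolynomial (Fin (m + 1)) k := MvPolynomial.X i -
          ∑ j, MvPolynomial.C (MvPowerSeries.constantCoeff (c j)) * τ (MvPolynomial.pderiv j f)
        have hq : co q ∈ CohenLib.varsIdeal k (m + 1) ^ 2 := by
          have : co q = ∑ j, (c j - MvPowerSeries.C (MvPowerSeries.constantCoeff (c j))) * MvPowerSeries.pderiv k j h := by
            rw [map_sub, show co (MvPolynomial.X i) = MvPowerSeries.X i by simp [hco, MvPowerSeries.algebraMap_apply'],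
              ← hc, map_sum, ← Finset.sum_sub_distrib]
            refine Finset.sum_congr rfl fun j _ => ?_
            rw [map_mul, sub_mul, hd, show co (MvPolynomial.C (MvPowerSeries.constantCoeff (c j))) =
              MvPowerSeries.C (MvPowerSeries.constantCoeff (c j)) by simp [hco, MvPowerSeries.algebraMap_apply']]
          rw [this, pow_two]
          refine Ideal.sum_mem _ fun j _ => Ideal.mul_mem_mul ?_ (hDle (Ideal.subset_span ⟨j, rfl⟩))
          rw [← CohenLib.maximalIdeal_mvPowerSeries_field, IsLocalRing.mem_maximalIdeal, mem_nonunits_iff,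
            MvPowerSeries.isUnit_iff_constantCoeff]
          simp
        have h4 := Ideal.mem_map_of_mem θ (mem_vars_pow hq)
        rw [Ideal.map_pow, hθ] at h4
        have h6 : θ (MvPolynomial.X i) =
            (∑ j, θ (MvPolynomial.C (MvPowerSeries.constantCoeff (c j))) * θ (τ (MvPolynomial.pderiv j f))) + θ q := by
          simp only [q, map_sub, map_sum, map_mul]
          ring
        rw [SetLike.mem_coe, h6, smul_eq_mul, ← pow_two]
        exact Submodule.add_mem_sup (Ideal.sum_mem _ fun j _ => Ideal.mul_mem_left _ _ (hθd j)) h4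
  exact hN

end Groth.Agent.QuadPtLib
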