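import Groth.Agent.QuadPtLib.Invariance
import Groth.Agent.ConormalAlgzLib.Complete
import Groth.Agent.CompleteLib.Noetherian
import Mathlib.RingTheory.Nullstellensatz

/-! The completed local ring of an affine hypersurface at a rational point. -/

set_option autoImplicit false
set_option linter.unusedSectionVars false
set_option linter.style.haveILetI false

universe u

open IsLocalRing CohenLib

namespace Groth.Agent.QuadPtLib

variable {k : Type u} [Field k] {N : ℕ}

local notation "S" => MvPolynomial (Fin N) k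
local notation "PS" => MvPowerSeries (Fin N) k

/-- Over an algebraically closed field a maximal ideal is the origin after a translation. -/
theorem exists_translation [IsAlgClosed k] (f : S) (P : Ideal (S ⧸ Ideal.span {f})) [P.IsMaximal] :
    ∃ τ : S ≃ₐ[k] S, (∀ (j : Fin N) (p : S), MvPolynomial.pderiv j (τ p) = τ (MvPolynomial.pderiv j p)) ∧
      ∀ p : S, Ideal.Quotient.mk (Ideal.span {f}) p ∈ P ↔ MvPolynomial.constantCoeff (τ p) = 0 := by
  classical
  haveI : (P.comap (Ideal.Quotient.mk (Ideal.span {f}))).IsMaximal :=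
    Ideal.comap_isMaximal_of_surjective _ Ideal.Quotient.mk_surjective
  obtain ⟨a, ha⟩ := (MvPolynomial.isMaximal_iff_eq_vanishingIdeal_singleton (K := k)).1 this
  let φ : S →ₐ[k] S := MvPolynomial.aeval fun i => MvPolynomial.X i + MvPolynomial.C (a i)
  let ψ : S →ₐ[k] S := MvPolynomial.aeval fun i => MvPolynomial.X i - MvPolynomial.C (a i)
  refine ⟨AlgEquiv.ofAlgHom φ ψ (MvPolynomial.algHom_ext fun i => by simp [φ, ψ])
    (MvPolynomial.algHom_ext fun i => by simp [φ, ψ]), fun j p => ?_, fun p => ?_⟩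
  · show MvPolynomial.pderiv j (φ p) = φ (MvPolynomial.pderiv j p)
    induction p using MvPolynomial.induction_on with
    | C c => simp [φ]
    | add p q hp hq => simp only [map_add, hp, hq]
    | mul_X p i hp =>
      simp only [map_mul, MvPolynomial.pderiv_mul, map_add, hp]
      congr 1
      simp [φ, MvPolynomial.pderiv_X, Pi.single_apply, apply_ite (MvPolynomial.aeval fun i => MvPolynomial.X i + MvPolynomial.C (a i))]
  · show _ ↔ MvPolynomial.constantCoeff (φ p) = 0
    have h1 : (MvPolynomial.constantCoeff : S →+* k).comp φ.toRingHom = MvPolynomial.eval a :=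
      MvPolynomial.ringHom_ext (fun c => by simp [φ]) fun i => by simp [φ]
    rw [show MvPolynomial.constantCoeff (φ p) = MvPolynomial.eval a p from RingHom.congr_fun h1 p,
      ← Ideal.mem_comap, ha, MvPolynomial.mem_vanishingIdeal_singleton_iff, MvPolynomial.aeval_eq_eval]

/-- The setting: `P` is the origin in the coordinates given by `τ`. -/
theorem map_vars (f : S) (P : Ideal (S ⧸ Ideal.span {f})) (τ : S ≃ₐ[k] S)
    (hP : ∀ p : S, Ideal.Quotient.mk (Ideal.span {f}) p ∈ P ↔ MvPolynomial.constantCoeff (τ p) = 0) :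
    (MvPolynomial.idealOfVars (Fin N) k).map ((Ideal.Quotient.mk (Ideal.span {f})).comp τ.symm.toAlgHom.toRingHom) = P := by
  refine le_antisymm ?_ fun y hy => ?_
  · rw [MvPolynomial.idealOfVars, Ideal.map_span, Ideal.span_le]
    rintro _ ⟨_, ⟨i, rfl⟩, rfl⟩
    show Ideal.Quotient.mk _ (τ.symm (MvPolynomial.X i)) ∈ P
    rw [hP, τ.apply_symm_apply, MvPolynomial.constantCoeff_X]
  · obtain ⟨p, rfl⟩ := Ideal.Quotient.mk_surjective y
    have h1 : τ p ∈ MvPolynomial.idealOfVars (Fin N) k := by
      rw [← pow_one (MvPolynomial.idealOfVars (Fin N) k), MvPolynomial.mem_pow_idealOfVars_iff']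
      intro e he
      rw [(Finsupp.degree_eq_zero_iff e).1 (by omega)]
      exact (hP p).1 hy
    have h2 := Ideal.mem_map_of_mem ((Ideal.Quotient.mk (Ideal.span {f})).comp τ.symm.toAlgHom.toRingHom) h1
    rwa [RingHom.comp_apply, show τ.symm.toAlgHom.toRingHom (τ p) = p from τ.symm_apply_apply p] at h2

theorem mem_vars_pow {n : ℕ} {p : S} (h : algebraMap S PS p ∈ varsIdeal k N ^ n) :
    p ∈ MvPolynomial.idealOfVars (Fin N) k ^ n := by
  rw [MvPolynomial.mem_pow_idealOfVars_iff']
  intro e he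
  rw [← OrdQuad.coeff_algebraMap]
  exact OrdQuad.coeff_eq_zero_of_mem_pow h he

theorem map_idealOfVars : (MvPolynomial.idealOfVars (Fin N) k).map (algebraMap S PS) = varsIdeal k N := by
  rw [MvPolynomial.idealOfVars, Ideal.map_span, ← Set.range_comp, varsIdeal]
  congr 2
  funext i
  simp [MvPowerSeries.algebraMap_apply']

/-- The completion at the point, with the map of the local ring into it. -/
theorem exists_completion (f : S) (P : Ideal (S ⧸ Ideal.span {f})) [P.IsPrime] (τ : S ≃ₐ[k] S)
    (hP : ∀ p : S, Ideal.Quotient.mk (Ideal.span {f}) p ∈ P ↔ MvPolynomial.constantCoeff (τ p) = 0)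
    (Y : Type u) [CommRing Y] [IsLocalRing Y] [Algebra (S ⧸ Ideal.span {f}) Y] [IsLocalization.AtPrime Y P]
    [Algebra k Y] [IsScalarTower k (S ⧸ Ideal.span {f}) Y] :
    ∃ Φ : Y →+* PS ⧸ Ideal.span {algebraMap S PS (τ f)},
      (∀ p : S, Φ (algebraMap _ Y (Ideal.Quotient.mk (Ideal.span {f}) p)) =
        Ideal.Quotient.mk _ (algebraMap S PS (τ p))) ∧
      (maximalIdeal Y).map Φ =
        (varsIdeal k N).map (Ideal.Quotient.mk (Ideal.span {algebraMap S PS (τ f)})) ∧
      Nonempty (AdicCompletion (maximalIdeal Y) Y ≃ₐ[k]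
        (PS ⧸ Ideal.span {algebraMap S PS (τ f)})) := by
  classical
  let co : S →+* PS := (algebraMap S PS).comp τ.toAlgHom.toRingHom
  let Ψ : S ⧸ Ideal.span {f} →+* PS ⧸ Ideal.span {algebraMap S PS (τ f)} :=
    Ideal.Quotient.lift _ ((Ideal.Quotient.mk _).comp co) fun x hx => by
      obtain ⟨y, rfl⟩ := Ideal.mem_span_singleton'.1 hx
      rw [RingHom.comp_apply, map_mul, map_mul, show co f = algebraMap S PS (τ f) from rfl,
        Ideal.Quotient.eq_zero_iff_mem.2 (Ideal.mem_span_singleton_self _), mul_zero]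
  have hΨ : ∀ p, Ψ (Ideal.Quotient.mk _ p) = Ideal.Quotient.mk _ (algebraMap S PS (τ p)) := fun p => rfl
  have hunit : ∀ s : P.primeCompl, IsUnit (Ψ s) := fun s => by
    obtain ⟨t, ht⟩ := Ideal.Quotient.mk_surjective (s : S ⧸ Ideal.span {f})
    rw [← ht, hΨ]
    refine IsUnit.map _ (MvPowerSeries.isUnit_iff_constantCoeff.2 (isUnit_iff_ne_zero.2 fun h => s.2 ?_))
    rw [← ht]
    refine (hP t).2 ?_
    rw [← h, ← MvPowerSeries.coeff_zero_eq_constantCoeff_apply, OrdQuad.coeff_algebraMap, MvPolynomial.constantCoeff_eq]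
  let Φ : Y →+* PS ⧸ Ideal.span {algebraMap S PS (τ f)} := IsLocalization.lift (M := P.primeCompl) hunit
  have hΦ : ∀ r, Φ (algebraMap _ Y r) = Ψ r := fun r => IsLocalization.lift_eq _ r
  have hJ : (maximalIdeal Y).map Φ = (varsIdeal k N).map (Ideal.Quotient.mk (Ideal.span {algebraMap S PS (τ f)})) := by
    rw [← IsLocalization.AtPrime.map_eq_maximalIdeal P Y, Ideal.map_map,
      show Φ.comp (algebraMap _ Y) = Ψ from RingHom.ext hΦ]
    calc P.map Ψ = ((MvPolynomial.idealOfVars (Fin N) k).map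
          ((Ideal.Quotient.mk (Ideal.span {f})).comp τ.symm.toAlgHom.toRingHom)).map Ψ := by rw [map_vars f P τ hP]
      _ = (MvPolynomial.idealOfVars (Fin N) k).map
          ((Ideal.Quotient.mk (Ideal.span {algebraMap S PS (τ f)})).comp (algebraMap S PS)) := by
        rw [Ideal.map_map]
        congr 1
        refine RingHom.ext fun p => ?_
        show Ψ (Ideal.Quotient.mk _ (τ.symm p)) = _
        rw [hΨ, τ.apply_symm_apply]
        rfl
      _ = _ := by rw [← Ideal.map_map, map_idealOfVars]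
  haveI := isNoetherianRing_mvPowerSeries (n := N) k
  haveI := isAdicComplete_varsIdeal (n := N) k
  have hC : IsAdicComplete ((maximalIdeal Y).map Φ) (PS ⧸ Ideal.span {algebraMap S PS (τ f)}) := by
    rw [hJ]
    exact (IsAdicComplete.map_algebraMap_iff (varsIdeal k N) _).2
      (CompleteLib.isAdicComplete_of_finite (M := PS ⧸ Ideal.span {algebraMap S PS (τ f)}))
  obtain ⟨e, he⟩ := ConormalAlgz.exists_equiv_completion (maximalIdeal Y) Φ hC
    (fun n y => by
      obtain ⟨F, rfl⟩ := Ideal.Quotient.mk_surjective y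
      obtain ⟨p, hp⟩ := exists_polynomial_sub_mem n F
      refine ⟨algebraMap _ Y (Ideal.Quotient.mk (Ideal.span {f}) (τ.symm p)), ?_⟩
      rw [hΦ, hΨ, τ.apply_symm_apply, hJ, ← map_sub, ← Ideal.map_pow]
      exact Ideal.mem_map_of_mem _ hp)
    (fun n d hd => by
      obtain ⟨r, s, rfl⟩ := IsLocalization.exists_mk'_eq P.primeCompl d
      obtain ⟨p, rfl⟩ := Ideal.Quotient.mk_surjective r
      refine (Ideal.mul_unit_mem_iff_mem _ (IsLocalization.map_units Y s)).1 ?_
      rw [IsLocalization.mk'_spec]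
      have h1 := Ideal.mul_mem_right (Φ (algebraMap _ Y (s : S ⧸ Ideal.span {f}))) _ hd
      rw [← map_mul, IsLocalization.mk'_spec, hΦ, hΨ, hJ, ← Ideal.map_pow,
        Ideal.mem_map_iff_of_surjective _ Ideal.Quotient.mk_surjective] at h1
      obtain ⟨w, hw, hwp⟩ := h1
      obtain ⟨g, hg⟩ := Ideal.mem_span_singleton'.1 (Ideal.Quotient.eq.1 hwp)
      obtain ⟨t, ht⟩ := exists_polynomial_sub_mem n g
      have h2 : algebraMap S PS (τ p + t * τ f) ∈ varsIdeal k N ^ n := by
        have h3 : algebraMap S PS (τ p + t * τ f) = w - (g - algebraMap S PS t) * algebraMap S PS (τ f) := by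
          rw [map_add, map_mul]
          linear_combination hg
        rw [h3]
        exact sub_mem hw (Ideal.mul_mem_right _ _ ht)
      have h5 := Ideal.mem_map_of_mem ((Ideal.Quotient.mk (Ideal.span {f})).comp τ.symm.toAlgHom.toRingHom)
        (mem_vars_pow h2)
      rw [Ideal.map_pow, map_vars f P τ hP, RingHom.comp_apply,
        show τ.symm.toAlgHom.toRingHom (τ p + t * τ f) = p + τ.symm t * f by simp,
        map_add, map_mul, Ideal.Quotient.eq_zero_iff_mem.2 (Ideal.mem_span_singleton_self f), mul_zero, add_zero] at h5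
      rw [← IsLocalization.AtPrime.map_eq_maximalIdeal P Y, ← Ideal.map_pow]
      exact Ideal.mem_map_of_mem _ h5)
  refine ⟨Φ, fun p => by rw [hΦ, hΨ], hJ, ⟨AlgEquiv.ofRingEquiv (f := e.symm) fun c => ?_⟩⟩
  rw [RingEquiv.symm_apply_eq, IsScalarTower.algebraMap_apply k Y (AdicCompletion (maximalIdeal Y) Y), ← he]
  refine congrArg e ?_
  rw [IsScalarTower.algebraMap_apply k (S ⧸ Ideal.span {f}) Y, hΦ,
    show algebraMap k (S ⧸ Ideal.span {f}) c = Ideal.Quotient.mk _ (MvPolynomial.C c) from rfl, hΨ,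
    show τ (MvPolynomial.C c) = MvPolynomial.C c from τ.commutes c]
  rw [IsScalarTower.algebraMap_apply k PS (PS ⧸ Ideal.span {algebraMap S PS (τ f)})]
  simp [MvPowerSeries.algebraMap_apply', MvPowerSeries.c_eq_algebraMap]
  rfl

end Groth.Agent.QuadPtLib
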